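import Cfsg.Agent.H60.SixBase

/-!
# Elimination of `G₂`, `F₄`, `³D₄`, `²F₄` in block 6, `q = 5 ^ m`: arithmetic (helper374, task 2624)

* `XS q X s` : `s X = (q³ + 1) / 2`, `am q ∣ X`;
* `XS.dich` : `X = q² - q + 1`, or `10 s² ≤ X`, or `27 X < 4 s²` and `s² ≤ 12 X`;
* `num_G2m`, `num_G2p`, `num_12_3`, `num_12_6`, `num_12_4`, `num_8_3`, `num_8_6`, `num_8_4` : no solutions of the
  congruences `s X = 1` modulo the orders of other tori;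
* `both_G2`, `both_F4` : the primes of `ap` and `am` in the two isolated tori;
* `pow_false` : `ap` is not a power of the characteristic.
-/

set_option autoImplicit false

namespace Cfsg.Agent.H374.Six5

open Cfsg.Agent.H376.Six Cfsg.Agent.H60.Six5

/-- a torus number `X` for the primes of `am q` -/
structure XS (q X s : ℕ) : Prop where
  P : Pow5 q
  mul : s * X = (q ^ 3 + 1) / 2
  dv : am q ∣ X

namespace XS

variable {q X s : ℕ} (h : XS q X s)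

include h

theorem odd_B : ((q ^ 3 + 1) / 2) % 2 = 1 := by
  have h1 : q ^ 3 % 4 = 1 := by rw [Nat.pow_mod, h.P.mod]
  omega

theorem odd : X % 2 = 1 := by
  have h1 := h.odd_B
  rw [← h.mul, Nat.mul_mod] at h1
  rcases Nat.mod_two_eq_zero_or_one X with h2 | h2
  · rw [h2] at h1; simp at h1
  · exact h2

theorem s_pos : 1 ≤ s := by
  rcases Nat.eq_zero_or_pos s with h0 | h0
  · have := h.odd_B
    rw [← h.mul, h0, zero_mul] at this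
    omega
  · exact h0

theorem X_pos : 1 ≤ X := by
  have := h.odd
  omega

/-- `2 s c = (q + 1) g`, `g X = (q² - q + 1) c` -/
theorem facts : ∃ c g : ℕ, (g = 1 ∨ g = 3) ∧ 2 * s * c = (q + 1) * g ∧ g * X = (q ^ 2 - q + 1) * c ∧ c % 2 = 1 ∧
    X = am q * c := by
  obtain ⟨c, hc⟩ := h.dv
  have h5 := h.P.le
  have h1 := (am_spec (q := q) (by omega)).1
  obtain ⟨g, hg⟩ : ∃ g, g = Nat.gcd 3 (q + 1) := ⟨_, rfl⟩
  rw [← hg] at h1
  have hg13 : g = 1 ∨ g = 3 := (Nat.dvd_prime Nat.prime_three).1 (hg ▸ Nat.gcd_dvd_left _ _)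
  have h2 := cube_add (q := q) (by omega)
  have h3 : 2 * (s * X) = q ^ 3 + 1 := by
    rw [h.mul]
    have := h.P.A
    have := h.P.B
    omega
  have ham : 0 < am q := by have := am_ge h.P; omega
  refine ⟨c, g, hg13, ?_, ?_, ?_, hc⟩
  · apply Nat.eq_of_mul_eq_mul_left ham
    calc am q * (2 * s * c) = 2 * (s * (am q * c)) := by ring
      _ = 2 * (s * X) := by rw [← hc]
      _ = (am q * g) * (q + 1) := by rw [h3, h2, h1]
      _ = am q * ((q + 1) * g) := by ring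
  · rw [← h1, hc]; ring
  · have h4 := h.odd
    rw [hc, Nat.mul_mod] at h4
    rcases Nat.mod_two_eq_zero_or_one c with h5 | h5
    · rw [h5] at h4; simp at h4
    · exact h5

theorem dich : X + q = q ^ 2 + 1 ∨ 10 * s ^ 2 ≤ X ∨ (27 * X < 4 * s ^ 2 ∧ s ^ 2 ≤ 12 * X) := by
  obtain ⟨c, g, hg, h1, h2, hc, -⟩ := h.facts
  have h5 := h.P.le
  have hqq : 5 * q ≤ q ^ 2 := by nlinarith
  obtain ⟨Q, hQ⟩ : ∃ Q, Q = q ^ 2 - q + 1 := ⟨_, rfl⟩
  rw [← hQ] at h2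
  have hQ' : Q + q = q ^ 2 + 1 := by omega
  have hsq : (2 * s * c) ^ 2 = ((q + 1) * g) ^ 2 := by rw [h1]
  have hk : 4 * s ^ 2 * c ^ 2 = (q ^ 2 + 2 * q + 1) * g ^ 2 := by nlinarith
  have hs1 := h.s_pos
  rcases hg with rfl | rfl
  · -- `g = 1`
    rw [one_mul] at h2
    rcases (by omega : c = 1 ∨ 3 ≤ c) with rfl | hc3
    · left; omega
    · right; left
      have hc2 : 9 ≤ c ^ 2 := by nlinarith
      -- `10 * s² * 4 c² = 10 (q+1)² ≤ 32 Q ≤ 4 c³ Q`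
      have h3 : 10 * s ^ 2 * (4 * c ^ 2) ≤ X * (4 * c ^ 2) := by
        calc 10 * s ^ 2 * (4 * c ^ 2) = 10 * (4 * s ^ 2 * c ^ 2) := by ring
          _ = 10 * (q ^ 2 + 2 * q + 1) := by rw [hk]; ring
          _ ≤ 108 * Q := by nlinarith
          _ ≤ 4 * (c * c ^ 2) * Q := by
              refine Nat.mul_le_mul_right Q ?_
              have : 3 * 9 ≤ c * c ^ 2 := Nat.mul_le_mul hc3 hc2
              omega
          _ = X * (4 * c ^ 2) := by rw [h2]; ring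
      exact Nat.le_of_mul_le_mul_right h3 (by positivity)
  · rcases (by omega : c = 1 ∨ c = 3 ∨ 5 ≤ c) with rfl | rfl | hc5
    · right; right
      constructor
      · nlinarith
      · nlinarith
    · left; omega
    · right; left
      have hc2 : 25 ≤ c ^ 2 := by nlinarith
      have h3 : 3 * (10 * s ^ 2 * (4 * c ^ 2)) ≤ 3 * (X * (4 * c ^ 2)) := by
        calc 3 * (10 * s ^ 2 * (4 * c ^ 2)) = 30 * (4 * s ^ 2 * c ^ 2) := by ring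
          _ = 270 * (q ^ 2 + 2 * q + 1) := by rw [hk]; ring
          _ ≤ 500 * Q := by nlinarith
          _ ≤ 4 * (c * c ^ 2) * Q := by
              refine Nat.mul_le_mul_right Q ?_
              have : 5 * 25 ≤ c * c ^ 2 := Nat.mul_le_mul hc5 hc2
              omega
          _ = (Q * c) * (4 * c ^ 2) := by ring
          _ = 3 * (X * (4 * c ^ 2)) := by rw [← h2]; ring
      have h4 := Nat.le_of_mul_le_mul_left h3 (by norm_num)
      exact Nat.le_of_mul_le_mul_right h4 (by positivity)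

theorem sq_le (hne : X + q ≠ q ^ 2 + 1) : s ^ 2 ≤ 12 * X := by
  rcases h.dich with h1 | h1 | h1
  · exact absurd h1 hne
  · omega
  · exact h1.2

/-- `2 s ≤ 7 t` if `X ≤ t²` -/
theorem le_of_sq (hne : X + q ≠ q ^ 2 + 1) {t : ℕ} (ht : X ≤ t ^ 2) : 2 * s ≤ 7 * t := by
  have h1 := h.sq_le hne
  by_contra hlt
  push Not at hlt
  have h2 : (7 * t) ^ 2 < (2 * s) ^ 2 := Nat.pow_lt_pow_left hlt (by norm_num)
  nlinarith

theorem cases3 : q = 5 ∨ q = 25 ∨ 125 ≤ q := by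
  obtain ⟨m, hm, rfl⟩ := h.P.pow
  rcases (by omega : m = 1 ∨ m = 2 ∨ 3 ≤ m) with rfl | rfl | h3
  · left; norm_num
  · right; left; norm_num
  · right; right
    calc 125 = 5 ^ 3 := by norm_num
      _ ≤ 5 ^ m := Nat.pow_le_pow_right (by norm_num) h3

theorem big (hq : q ≠ 5) : 601 ≤ X := by
  have h1 := Nat.le_of_dvd h.X_pos h.dv
  rcases h.cases3 with h2 | h2 | h2
  · exact absurd h2 hq
  · rw [h2] at h1
    have : am 25 = 601 := by decide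
    omega
  · have h3 := three_am (q := q) (by omega)
    have h4 : 125 * q ≤ q ^ 2 := by nlinarith
    omega

end XS

/-! ### congruences -/

theorem mul_dvd {a b z x y c : ℤ} (ha : a ∣ z) (hb : b ∣ z) (h : x * a + y * b = c) : a * b ∣ c * z := by
  have e : c * z = x * (a * z) + y * (z * b) := by rw [← h]; ring
  rw [e]
  exact dvd_add (Dvd.dvd.mul_left (mul_dvd_mul_left a hb) _) (Dvd.dvd.mul_left (mul_dvd_mul_right ha b) _)

/-- the alternatives for `N ∣ z` -/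
theorem abs_cases {N z : ℤ} (h : N ∣ z) : z = 0 ∨ N ≤ z ∨ N ≤ -z := by
  rcases lt_trichotomy z 0 with h0 | h0 | h0
  · exact Or.inr (Or.inr (Int.le_of_dvd (by omega) (h.trans (dvd_neg.2 dvd_rfl))))
  · exact Or.inl h0
  · exact Or.inr (Or.inl (Int.le_of_dvd h0 h))

section G2

variable {q X s v : ℕ} (h : XS q X s) (hne : X + q ≠ q ^ 2 + 1)

include h hne

/-- `X = v² - v + 1`, `s X = 1` modulo `v ± 1` -/
theorem num_G2m (hX : (X : ℤ) = (v : ℤ) ^ 2 - v + 1) (hv : 24 ≤ v) (h1 : ((v : ℤ) - 1) ∣ (s : ℤ) * X - 1)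
    (h2 : ((v : ℤ) + 1) ∣ (s : ℤ) * X - 1) : False := by
  have hvz : (24 : ℤ) ≤ v := by exact_mod_cast hv
  have hs1 : (1 : ℤ) ≤ s := by exact_mod_cast h.s_pos
  have hb : 2 * (s : ℤ) ≤ 7 * v := by
    have : X ≤ v ^ 2 := by
      have : (X : ℤ) ≤ (v : ℤ) ^ 2 := by rw [hX]; linarith
      exact_mod_cast this
    exact_mod_cast h.le_of_sq hne this
  have ha : ((v : ℤ) - 1) ∣ 3 * s - (v + 2) := by
    have e : 3 * (s : ℤ) - (v + 2) = 3 * (s * X - 1) - ((v : ℤ) - 1) * (3 * s * v + 1) := by rw [hX]; ring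
    rw [e]
    exact dvd_sub (h1.mul_left _) (dvd_mul_right _ _)
  have hb' : ((v : ℤ) + 1) ∣ 3 * s - (v + 2) := by
    have e : 3 * (s : ℤ) - (v + 2) = (s * X - 1) - ((v : ℤ) + 1) * (s * (v - 2) + 1) := by rw [hX]; ring
    rw [e]
    exact dvd_sub h2 (dvd_mul_right _ _)
  have hm := mul_dvd (x := -1) (y := 1) (c := 2) ha hb' (by ring)
  rcases abs_cases hm with h3 | h3 | h3
  · have h4 : 3 * (s : ℤ) = v + 2 := by linarith
    have h5 : 9 * (s : ℤ) ^ 2 = (v + 2) ^ 2 := by rw [← h4]; ring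
    rcases h.dich with h6 | h6 | h6
    · exact hne h6
    · have h7 : 10 * (s : ℤ) ^ 2 ≤ X := by exact_mod_cast h6
      rw [hX] at h7
      nlinarith
    · have h7 : 27 * (X : ℤ) < 4 * (s : ℤ) ^ 2 := by exact_mod_cast h6.1
      rw [hX] at h7
      nlinarith
  · nlinarith
  · nlinarith

/-- `X = v² + v + 1`, `s X = 1` modulo `v ± 1` -/
theorem num_G2p (hX : (X : ℤ) = (v : ℤ) ^ 2 + v + 1) (hv : 24 ≤ v) (h1 : ((v : ℤ) - 1) ∣ (s : ℤ) * X - 1)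
    (h2 : ((v : ℤ) + 1) ∣ (s : ℤ) * X - 1) : False := by
  have hvz : (24 : ℤ) ≤ v := by exact_mod_cast hv
  have hs1 : (1 : ℤ) ≤ s := by exact_mod_cast h.s_pos
  have hb : 2 * (s : ℤ) ≤ 7 * (v + 1) := by
    have : X ≤ (v + 1) ^ 2 := by
      have : (X : ℤ) ≤ ((v : ℤ) + 1) ^ 2 := by rw [hX]; nlinarith
      exact_mod_cast this
    exact_mod_cast h.le_of_sq hne this
  have ha : ((v : ℤ) - 1) ∣ 3 * s + v - 2 := by
    have e : 3 * (s : ℤ) + v - 2 = (s * X - 1) - ((v : ℤ) - 1) * (s * (v + 2) - 1) := by rw [hX]; ring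
    rw [e]
    exact dvd_sub h1 (dvd_mul_right _ _)
  have hb' : ((v : ℤ) + 1) ∣ 3 * s + v - 2 := by
    have e : 3 * (s : ℤ) + v - 2 = 3 * (s * X - 1) - ((v : ℤ) + 1) * (3 * s * v - 1) := by rw [hX]; ring
    rw [e]
    exact dvd_sub (h2.mul_left _) (dvd_mul_right _ _)
  have hm := mul_dvd (x := -1) (y := 1) (c := 2) ha hb' (by ring)
  have h3 := Int.le_of_dvd (by linarith) hm
  nlinarith

end G2

section F4

variable {q X s v : ℕ} (h : XS q X s) (hne : X + q ≠ q ^ 2 + 1)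

theorem sq_facts (hv : 7 ≤ v) : (7 : ℤ) ≤ v ∧ 7 * (v : ℤ) ≤ (v : ℤ) ^ 2 ∧ 7 * (v : ℤ) ^ 2 ≤ (v : ℤ) ^ 3 ∧
    7 * (v : ℤ) ^ 3 ≤ (v : ℤ) ^ 4 := by
  have hvz : (7 : ℤ) ≤ v := by exact_mod_cast hv
  refine ⟨hvz, by nlinarith, ?_, ?_⟩
  · have : (v : ℤ) ^ 3 = v * (v : ℤ) ^ 2 := by ring
    rw [this]
    exact mul_le_mul_of_nonneg_right hvz (by positivity)
  · have : (v : ℤ) ^ 4 = v * (v : ℤ) ^ 3 := by ring
    rw [this]
    exact mul_le_mul_of_nonneg_right hvz (by positivity)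

/-- `X` is prime to `v⁶ - 1` -/
theorem cop12 (hodd : X % 2 = 1) (hX : (X : ℤ) = (v : ℤ) ^ 4 - (v : ℤ) ^ 2 + 1) : IsCoprime (X : ℤ) ((v : ℤ) ^ 6 - 1) := by
  obtain ⟨k, hk⟩ : ∃ k : ℤ, (X : ℤ) = 2 * k + 1 := ⟨(X : ℤ) / 2, by omega⟩
  refine ⟨1 - k * ((v : ℤ) ^ 2 + 1), k, ?_⟩
  have h2 : (X : ℤ) * ((v : ℤ) ^ 2 + 1) - ((v : ℤ) ^ 6 - 1) = 2 := by rw [hX]; ring
  linear_combination (1 : ℤ) * hk - k * h2

theorem cop8 (hodd : X % 2 = 1) (hX : (X : ℤ) = (v : ℤ) ^ 4 + 1) : IsCoprime (X : ℤ) ((v : ℤ) ^ 6 - 1) := by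
  obtain ⟨k, hk⟩ : ∃ k : ℤ, (X : ℤ) = 2 * k + 1 := ⟨(X : ℤ) / 2, by omega⟩
  refine ⟨1 - k * (1 + (v : ℤ) ^ 2 - (v : ℤ) ^ 4), -k * ((v : ℤ) ^ 2 - 1), ?_⟩
  have h2 : (X : ℤ) * (1 + (v : ℤ) ^ 2 - (v : ℤ) ^ 4) + ((v : ℤ) ^ 6 - 1) * ((v : ℤ) ^ 2 - 1) = 2 := by rw [hX]; ring
  linear_combination (1 : ℤ) * hk - k * h2

theorem dvd6 {N : ℤ} (hN : N = (v : ℤ) ^ 2 + v + 1 ∨ N = (v : ℤ) ^ 2 - v + 1 ∨ N = (v : ℤ) - 1 ∨ N = (v : ℤ) + 1) :
    N ∣ (v : ℤ) ^ 6 - 1 := by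
  rcases hN with rfl | rfl | rfl | rfl
  · exact ⟨((v : ℤ) - 1) * ((v : ℤ) ^ 3 + 1), by ring⟩
  · exact ⟨((v : ℤ) + 1) * ((v : ℤ) ^ 3 - 1), by ring⟩
  · exact ⟨((v : ℤ) ^ 2 + v + 1) * ((v : ℤ) ^ 3 + 1), by ring⟩
  · exact ⟨((v : ℤ) ^ 2 - v + 1) * ((v : ℤ) ^ 3 - 1), by ring⟩

include h

/-- the reduction for `X = v⁴ - v² + 1` -/
theorem red12 (hX : (X : ℤ) = (v : ℤ) ^ 4 - (v : ℤ) ^ 2 + 1) {N : ℤ}
    (hN : N = (v : ℤ) ^ 2 + v + 1 ∨ N = (v : ℤ) ^ 2 - v + 1 ∨ N = (v : ℤ) - 1 ∨ N = (v : ℤ) + 1)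
    (h1 : N ∣ (s : ℤ) * X - 1) : N ∣ 2 * s - ((v : ℤ) ^ 2 + 1) := by
  have h6 := dvd6 hN
  have hcop : IsCoprime N (X : ℤ) := ((cop12 h.odd hX).of_isCoprime_of_dvd_right h6).symm
  apply hcop.dvd_of_dvd_mul_left
  have e : (X : ℤ) * (2 * s - ((v : ℤ) ^ 2 + 1)) = 2 * (s * X - 1) - ((v : ℤ) ^ 6 - 1) := by
    have : (X : ℤ) * ((v : ℤ) ^ 2 + 1) = (v : ℤ) ^ 6 + 1 := by rw [hX]; ring
    linear_combination -this
  rw [e]
  exact dvd_sub (h1.mul_left _) h6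

theorem red8 (hX : (X : ℤ) = (v : ℤ) ^ 4 + 1) {N : ℤ}
    (hN : N = (v : ℤ) ^ 2 + v + 1 ∨ N = (v : ℤ) ^ 2 - v + 1 ∨ N = (v : ℤ) - 1 ∨ N = (v : ℤ) + 1)
    (h1 : N ∣ (s : ℤ) * X - 1) : N ∣ 2 * s + (v : ℤ) ^ 4 - (v : ℤ) ^ 2 - 1 := by
  have h6 := dvd6 hN
  have hcop : IsCoprime N (X : ℤ) := ((cop8 h.odd hX).of_isCoprime_of_dvd_right h6).symm
  apply hcop.dvd_of_dvd_mul_left
  have e : (X : ℤ) * (2 * s + (v : ℤ) ^ 4 - (v : ℤ) ^ 2 - 1) =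
      2 * (s * X - 1) + ((v : ℤ) ^ 6 - 1) * ((v : ℤ) ^ 2 - 1) := by
    have : (X : ℤ) * (1 + (v : ℤ) ^ 2 - (v : ℤ) ^ 4) = 2 - ((v : ℤ) ^ 6 - 1) * ((v : ℤ) ^ 2 - 1) := by rw [hX]; ring
    linear_combination -this
  rw [e]
  exact dvd_add (h1.mul_left _) (h6.mul_right _)

include hne

theorem b12 (hX : (X : ℤ) = (v : ℤ) ^ 4 - (v : ℤ) ^ 2 + 1) (hv : 7 ≤ v) : 2 * (s : ℤ) ≤ 7 * (v : ℤ) ^ 2 := by
  obtain ⟨a1, a2, a3, a4⟩ := sq_facts hv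
  have : X ≤ (v ^ 2) ^ 2 := by
    have : (X : ℤ) ≤ ((v : ℤ) ^ 2) ^ 2 := by rw [hX]; nlinarith
    exact_mod_cast this
  exact_mod_cast h.le_of_sq hne this

theorem b8 (hX : (X : ℤ) = (v : ℤ) ^ 4 + 1) (hv : 7 ≤ v) : 2 * (s : ℤ) ≤ 7 * (v : ℤ) ^ 2 + 7 := by
  obtain ⟨a1, a2, a3, a4⟩ := sq_facts hv
  have : X ≤ (v ^ 2 + 1) ^ 2 := by
    have : (X : ℤ) ≤ ((v : ℤ) ^ 2 + 1) ^ 2 := by rw [hX]; nlinarith
    exact_mod_cast this
  have h1 := h.le_of_sq hne this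
  have h2 : 2 * (s : ℤ) ≤ 7 * ((v : ℤ) ^ 2 + 1) := by exact_mod_cast h1
  linarith

theorem num_12_3 (hX : (X : ℤ) = (v : ℤ) ^ 4 - (v : ℤ) ^ 2 + 1) (hv : 7 ≤ v) (h3 : ((v : ℤ) ^ 2 + v + 1) ∣ (s : ℤ) * X - 1)
    (h1 : ((v : ℤ) - 1) ∣ (s : ℤ) * X - 1) (h2 : ((v : ℤ) + 1) ∣ (s : ℤ) * X - 1) : False := by
  obtain ⟨a1, a2, a3, a4⟩ := sq_facts hv
  have hs1 : (1 : ℤ) ≤ s := by exact_mod_cast h.s_pos
  have hb := b12 h hne hX hv
  have r3 := red12 h hX (Or.inl rfl) h3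
  have r1 := red12 h hX (Or.inr (Or.inr (Or.inl rfl))) h1
  have r2 := red12 h hX (Or.inr (Or.inr (Or.inr rfl))) h2
  have m1 := mul_dvd (x := -1) (y := 1) (c := 2) r1 r2 (by ring)
  have m2 := mul_dvd (x := -((v : ℤ) - 2)) (y := (v : ℤ) - 1) (c := 3) (r3.mul_left 2) m1 (by ring)
  rcases abs_cases m2 with h4 | h4 | h4
  · have h5 : 2 * (s : ℤ) = (v : ℤ) ^ 2 + 1 := by linarith
    have h6 : 4 * (s : ℤ) ^ 2 = ((v : ℤ) ^ 2 + 1) ^ 2 := by rw [← h5]; ring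
    have e : ((v : ℤ) ^ 2 + 1) ^ 2 = (v : ℤ) ^ 4 + 2 * (v : ℤ) ^ 2 + 1 := by ring
    rw [e] at h6
    rcases h.dich with h7 | h7 | h7
    · exact hne h7
    · have h8 : 10 * (s : ℤ) ^ 2 ≤ X := by exact_mod_cast h7
      rw [hX] at h8
      linarith
    · have h8 : 27 * (X : ℤ) < 4 * (s : ℤ) ^ 2 := by exact_mod_cast h7.1
      rw [hX] at h8
      linarith
  · have e : ((v : ℤ) ^ 2 + v + 1) * (((v : ℤ) - 1) * ((v : ℤ) + 1)) = (v : ℤ) ^ 4 + (v : ℤ) ^ 3 - v - 1 := by ring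
    rw [e] at h4
    linarith
  · have e : ((v : ℤ) ^ 2 + v + 1) * (((v : ℤ) - 1) * ((v : ℤ) + 1)) = (v : ℤ) ^ 4 + (v : ℤ) ^ 3 - v - 1 := by ring
    rw [e] at h4
    linarith

theorem num_12_6 (hX : (X : ℤ) = (v : ℤ) ^ 4 - (v : ℤ) ^ 2 + 1) (hv : 7 ≤ v) (h3 : ((v : ℤ) ^ 2 - v + 1) ∣ (s : ℤ) * X - 1)
    (h1 : ((v : ℤ) - 1) ∣ (s : ℤ) * X - 1) (h2 : ((v : ℤ) + 1) ∣ (s : ℤ) * X - 1) : False := by
  obtain ⟨a1, a2, a3, a4⟩ := sq_facts hv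
  have hs1 : (1 : ℤ) ≤ s := by exact_mod_cast h.s_pos
  have hb := b12 h hne hX hv
  have r3 := red12 h hX (Or.inr (Or.inl rfl)) h3
  have r1 := red12 h hX (Or.inr (Or.inr (Or.inl rfl))) h1
  have r2 := red12 h hX (Or.inr (Or.inr (Or.inr rfl))) h2
  have m1 := mul_dvd (x := -1) (y := 1) (c := 2) r1 r2 (by ring)
  have m2 := mul_dvd (x := (v : ℤ) + 2) (y := -((v : ℤ) + 1)) (c := 3) (r3.mul_left 2) m1 (by ring)
  have e : ((v : ℤ) ^ 2 - v + 1) * (((v : ℤ) - 1) * ((v : ℤ) + 1)) = (v : ℤ) ^ 4 - (v : ℤ) ^ 3 + v - 1 := by ring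
  rcases abs_cases m2 with h4 | h4 | h4
  · have h5 : 2 * (s : ℤ) = (v : ℤ) ^ 2 + 1 := by linarith
    have h6 : 4 * (s : ℤ) ^ 2 = ((v : ℤ) ^ 2 + 1) ^ 2 := by rw [← h5]; ring
    have e : ((v : ℤ) ^ 2 + 1) ^ 2 = (v : ℤ) ^ 4 + 2 * (v : ℤ) ^ 2 + 1 := by ring
    rw [e] at h6
    rcases h.dich with h7 | h7 | h7
    · exact hne h7
    · have h8 : 10 * (s : ℤ) ^ 2 ≤ X := by exact_mod_cast h7
      rw [hX] at h8
      linarith
    · have h8 : 27 * (X : ℤ) < 4 * (s : ℤ) ^ 2 := by exact_mod_cast h7.1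
      rw [hX] at h8
      linarith
  · rw [e] at h4
    linarith
  · rw [e] at h4
    linarith

theorem num_12_4 (hX : (X : ℤ) = (v : ℤ) ^ 4 - (v : ℤ) ^ 2 + 1) (hv : 7 ≤ v) (h3 : ((v : ℤ) ^ 2 + 1) ∣ (s : ℤ) * X - 1)
    (h1 : ((v : ℤ) ^ 2 - 1) ∣ (s : ℤ) * X - 1) : False := by
  obtain ⟨a1, a2, a3, a4⟩ := sq_facts hv
  have hs1 : (1 : ℤ) ≤ s := by exact_mod_cast h.s_pos
  have hb := b12 h hne hX hv
  have r3 : ((v : ℤ) ^ 2 + 1) ∣ 3 * s - ((v : ℤ) ^ 2 + 2) := by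
    have e : 3 * (s : ℤ) - ((v : ℤ) ^ 2 + 2) = (s * X - 1) - ((v : ℤ) ^ 2 + 1) * (s * ((v : ℤ) ^ 2 - 2) + 1) := by
      rw [hX]; ring
    rw [e]
    exact dvd_sub h3 (dvd_mul_right _ _)
  have r1 : ((v : ℤ) ^ 2 - 1) ∣ 3 * s - ((v : ℤ) ^ 2 + 2) := by
    have e : 3 * (s : ℤ) - ((v : ℤ) ^ 2 + 2) = 3 * (s * X - 1) - ((v : ℤ) ^ 2 - 1) * (3 * s * (v : ℤ) ^ 2 + 1) := by
      rw [hX]; ring
    rw [e]
    exact dvd_sub (h1.mul_left _) (dvd_mul_right _ _)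
  have m := mul_dvd (x := 1) (y := -1) (c := 2) r3 r1 (by ring)
  have e : ((v : ℤ) ^ 2 + 1) * ((v : ℤ) ^ 2 - 1) = (v : ℤ) ^ 4 - 1 := by ring
  rw [e] at m
  rcases abs_cases m with h4 | h4 | h4
  · have h5 : 3 * (s : ℤ) = (v : ℤ) ^ 2 + 2 := by linarith
    have h6 : 9 * (s : ℤ) ^ 2 = ((v : ℤ) ^ 2 + 2) ^ 2 := by rw [← h5]; ring
    have e : ((v : ℤ) ^ 2 + 2) ^ 2 = (v : ℤ) ^ 4 + 4 * (v : ℤ) ^ 2 + 4 := by ring
    rw [e] at h6
    rcases h.dich with h7 | h7 | h7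
    · exact hne h7
    · have h8 : 10 * (s : ℤ) ^ 2 ≤ X := by exact_mod_cast h7
      rw [hX] at h8
      linarith
    · have h8 : 27 * (X : ℤ) < 4 * (s : ℤ) ^ 2 := by exact_mod_cast h7.1
      rw [hX] at h8
      linarith
  · linarith
  · linarith

omit hne in
theorem even_of8 (hX : (X : ℤ) = (v : ℤ) ^ 4 + 1) : v % 2 = 0 := by
  have h1 := h.odd
  rcases Nat.mod_two_eq_zero_or_one v with h2 | h2
  · exact h2
  · exfalso
    have h3 : X = v ^ 4 + 1 := by exact_mod_cast hX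
    have h4 : v ^ 4 % 2 = 1 := by rw [Nat.pow_mod, h2]
    omega

theorem num_8_3 (hX : (X : ℤ) = (v : ℤ) ^ 4 + 1) (hv : 8 ≤ v) (h3 : ((v : ℤ) ^ 2 + v + 1) ∣ (s : ℤ) * X - 1)
    (h1 : ((v : ℤ) - 1) ∣ (s : ℤ) * X - 1) (h2 : ((v : ℤ) + 1) ∣ (s : ℤ) * X - 1) : False := by
  obtain ⟨a1, a2, a3, a4⟩ := sq_facts (v := v) (by omega)
  have hv8 : (8 : ℤ) ≤ v := by exact_mod_cast hv
  have b2 : 8 * (v : ℤ) ≤ (v : ℤ) ^ 2 := by nlinarith
  have b3 : 8 * (v : ℤ) ^ 2 ≤ (v : ℤ) ^ 3 := by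
    have : (v : ℤ) ^ 3 = v * (v : ℤ) ^ 2 := by ring
    rw [this]
    exact mul_le_mul_of_nonneg_right hv8 (by positivity)
  have b4 : 8 * (v : ℤ) ^ 3 ≤ (v : ℤ) ^ 4 := by
    have : (v : ℤ) ^ 4 = v * (v : ℤ) ^ 3 := by ring
    rw [this]
    exact mul_le_mul_of_nonneg_right hv8 (by positivity)
  have hs1 : (1 : ℤ) ≤ s := by exact_mod_cast h.s_pos
  have hb := b8 h hne hX (by omega)
  have hv2 := even_of8 h hX
  have r3 := red8 h hX (Or.inl rfl) h3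
  have r1 := red8 h hX (Or.inr (Or.inr (Or.inl rfl))) h1
  have r2 := red8 h hX (Or.inr (Or.inr (Or.inr rfl))) h2
  have hcop : IsCoprime ((v : ℤ) - 1) ((v : ℤ) + 1) := by
    obtain ⟨k, hk⟩ : ∃ k : ℤ, (v : ℤ) = 2 * k := ⟨(v : ℤ) / 2, by omega⟩
    exact ⟨-(k + 1), k, by rw [hk]; ring⟩
  have m1 := hcop.mul_dvd r1 r2
  have m2 := mul_dvd (x := -((v : ℤ) - 2)) (y := (v : ℤ) - 1) (c := 3) r3 m1 (by ring)
  obtain ⟨j, hj⟩ := m2
  have e : ((v : ℤ) ^ 2 + v + 1) * (((v : ℤ) - 1) * ((v : ℤ) + 1)) = (v : ℤ) ^ 4 + (v : ℤ) ^ 3 - v - 1 := by ring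
  rw [e] at hj
  have hpos : 0 < (v : ℤ) ^ 4 + (v : ℤ) ^ 3 - v - 1 := by linarith
  have j2 : 2 < j := by
    by_contra hlt
    push Not at hlt
    have := mul_le_mul_of_nonneg_left hlt hpos.le
    linarith
  have j3 : j < 3 := by
    by_contra hlt
    push Not at hlt
    have := mul_le_mul_of_nonneg_left hlt hpos.le
    linarith
  omega

theorem num_8_6 (hX : (X : ℤ) = (v : ℤ) ^ 4 + 1) (hv : 8 ≤ v) (h3 : ((v : ℤ) ^ 2 - v + 1) ∣ (s : ℤ) * X - 1)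
    (h1 : ((v : ℤ) - 1) ∣ (s : ℤ) * X - 1) (h2 : ((v : ℤ) + 1) ∣ (s : ℤ) * X - 1) : False := by
  obtain ⟨a1, a2, a3, a4⟩ := sq_facts (v := v) (by omega)
  have hv8 : (8 : ℤ) ≤ v := by exact_mod_cast hv
  have b2 : 8 * (v : ℤ) ≤ (v : ℤ) ^ 2 := by nlinarith
  have b3 : 8 * (v : ℤ) ^ 2 ≤ (v : ℤ) ^ 3 := by
    have : (v : ℤ) ^ 3 = v * (v : ℤ) ^ 2 := by ring
    rw [this]
    exact mul_le_mul_of_nonneg_right hv8 (by positivity)
  have b4 : 8 * (v : ℤ) ^ 3 ≤ (v : ℤ) ^ 4 := by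
    have : (v : ℤ) ^ 4 = v * (v : ℤ) ^ 3 := by ring
    rw [this]
    exact mul_le_mul_of_nonneg_right hv8 (by positivity)
  have hs1 : (1 : ℤ) ≤ s := by exact_mod_cast h.s_pos
  have hb := b8 h hne hX (by omega)
  have hv2 := even_of8 h hX
  have r3 := red8 h hX (Or.inr (Or.inl rfl)) h3
  have r1 := red8 h hX (Or.inr (Or.inr (Or.inl rfl))) h1
  have r2 := red8 h hX (Or.inr (Or.inr (Or.inr rfl))) h2
  have hcop : IsCoprime ((v : ℤ) - 1) ((v : ℤ) + 1) := by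
    obtain ⟨k, hk⟩ : ∃ k : ℤ, (v : ℤ) = 2 * k := ⟨(v : ℤ) / 2, by omega⟩
    exact ⟨-(k + 1), k, by rw [hk]; ring⟩
  have m1 := hcop.mul_dvd r1 r2
  have m2 := mul_dvd (x := (v : ℤ) + 2) (y := -((v : ℤ) + 1)) (c := 3) r3 m1 (by ring)
  obtain ⟨j, hj⟩ := m2
  have e : ((v : ℤ) ^ 2 - v + 1) * (((v : ℤ) - 1) * ((v : ℤ) + 1)) = (v : ℤ) ^ 4 - (v : ℤ) ^ 3 + v - 1 := by ring
  rw [e] at hj
  have hpos : 0 < (v : ℤ) ^ 4 - (v : ℤ) ^ 3 + v - 1 := by linarith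
  have j2 : 3 < j := by
    by_contra hlt
    push Not at hlt
    have := mul_le_mul_of_nonneg_left hlt hpos.le
    linarith
  have j3 : j < 4 := by
    by_contra hlt
    push Not at hlt
    have := mul_le_mul_of_nonneg_left hlt hpos.le
    linarith
  omega

theorem num_8_4 (hX : (X : ℤ) = (v : ℤ) ^ 4 + 1) (hv : 8 ≤ v) (h3 : ((v : ℤ) ^ 2 + 1) ∣ (s : ℤ) * X - 1)
    (h1 : ((v : ℤ) ^ 2 - 1) ∣ (s : ℤ) * X - 1) : False := by
  obtain ⟨a1, a2, a3, a4⟩ := sq_facts (v := v) (by omega)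
  have hs1 : (1 : ℤ) ≤ s := by exact_mod_cast h.s_pos
  have hb := b8 h hne hX (by omega)
  have r3 : ((v : ℤ) ^ 2 + 1) ∣ 2 * (s : ℤ) - 1 := by
    have e : 2 * (s : ℤ) - 1 = (s * X - 1) - ((v : ℤ) ^ 2 + 1) * (s * ((v : ℤ) ^ 2 - 1)) := by
      rw [hX]; ring
    rw [e]
    exact dvd_sub h3 (dvd_mul_right _ _)
  have r1 : ((v : ℤ) ^ 2 - 1) ∣ 2 * (s : ℤ) - 1 := by
    have e : 2 * (s : ℤ) - 1 = (s * X - 1) - ((v : ℤ) ^ 2 - 1) * (s * ((v : ℤ) ^ 2 + 1)) := by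
      rw [hX]; ring
    rw [e]
    exact dvd_sub h1 (dvd_mul_right _ _)
  have m := mul_dvd (x := 1) (y := -1) (c := 2) r3 r1 (by ring)
  have e : ((v : ℤ) ^ 2 + 1) * ((v : ℤ) ^ 2 - 1) = (v : ℤ) ^ 4 - 1 := by ring
  rw [e] at m
  have h4 := Int.le_of_dvd (by linarith) m
  linarith

end F4

/-! ### both tori -/

section Both

variable {q X Y s v : ℕ} (h : XS q X s)

include h

theorem both_aux (hY : Y ∣ (q ^ 3 - 1) / 2) (hap : ap q ∣ Y) : ∃ c d : ℕ, X = am q * c ∧ Y = ap q * d ∧ 0 < d ∧ 0 < c ∧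
    3 * (X * Y) = (q ^ 4 + q ^ 2 + 1) * (c * d) := by
  obtain ⟨c, hc⟩ := h.dv
  obtain ⟨d, hd⟩ := hap
  have hY0 : 0 < Y := Nat.pos_of_dvd_of_pos hY h.P.A_pos
  refine ⟨c, d, hc, hd, Nat.pos_of_ne_zero (by rintro rfl; simp at hd; omega),
    Nat.pos_of_ne_zero (by rintro rfl; simp at hc; have := h.X_pos; omega), ?_⟩
  rw [← ap_mul_am (by have := h.P.le; omega) h.P.three, hc, hd]
  ring

theorem both_eq (hY : Y ∣ (q ^ 3 - 1) / 2) (hap : ap q ∣ Y) (hlt : 3 * (X * Y) < 2 * (q ^ 4 + q ^ 2 + 1)) :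
    X = am q ∧ Y = ap q := by
  obtain ⟨c, d, hc, hd, hd0, hc0, h3⟩ := both_aux h hY hap
  have h1 : c * d < 2 := by
    by_contra hcon
    push Not at hcon
    have := Nat.mul_le_mul_left (q ^ 4 + q ^ 2 + 1) hcon
    omega
  have h2 : 0 < c * d := Nat.mul_pos hc0 hd0
  have h4 : c * d = 1 := by omega
  have h5 : c = 1 := Nat.eq_one_of_mul_eq_one_right h4
  have h6 : d = 1 := Nat.eq_one_of_mul_eq_one_left h4
  rw [hc, hd, h5, h6, mul_one, mul_one]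
  exact ⟨rfl, rfl⟩

/-- `v² ± v + 1` -/
theorem both_G2 (hY : Y ∣ (q ^ 3 - 1) / 2) (hap : ap q ∣ Y) (hv : 1 ≤ v) (hvq : v ≠ q)
    (hXY : (X = v ^ 2 + v + 1 ∧ Y + v = v ^ 2 + 1) ∨ (X + v = v ^ 2 + 1 ∧ Y = v ^ 2 + v + 1)) : False := by
  have h5 := h.P.le
  have hB := h.P.B
  have hA := h.P.A
  have hXB : X ∣ (q ^ 3 + 1) / 2 := ⟨s, by rw [← h.mul]; ring⟩
  have hY0 : 0 < Y := Nat.pos_of_dvd_of_pos hY h.P.A_pos
  have hv2 : v ≤ v ^ 2 := Nat.le_self_pow (by norm_num) v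
  have hXY' : X * Y = v ^ 4 + v ^ 2 + 1 := by
    rcases hXY with ⟨h1, h2⟩ | ⟨h1, h2⟩
    · have h3 : Y = v ^ 2 + 1 - v := by omega
      rw [h1, h3]
      zify [show v ≤ v ^ 2 + 1 by omega]
      ring
    · have h3 : X = v ^ 2 + 1 - v := by omega
      rw [h2, h3]
      zify [show v ≤ v ^ 2 + 1 by omega]
      ring
  -- `v ≤ q`
  have hle : v ≤ q := by
    have key : v ^ 4 ≤ v * (q ^ 3 + 2) := by
      rcases hXY with ⟨h1, h2⟩ | ⟨h1, h2⟩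
      · rcases Nat.lt_or_ge 1 Y with hY1 | hY1
        · rcases size_up hB hY hY1 hXB (D := 2 * v) (by omega) with h3 | h3
          · omega
          · have h4 : 2 * v * ((q ^ 3 + 1) / 2) = v * (q ^ 3 + 1) := by
              have : 2 * ((q ^ 3 + 1) / 2) = q ^ 3 + 1 := by omega
              calc 2 * v * ((q ^ 3 + 1) / 2) = v * (2 * ((q ^ 3 + 1) / 2)) := by ring
                _ = _ := by rw [this]
            rw [h4, mul_comm Y X, hXY'] at h3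
            nlinarith
        · have : ap q ≤ 1 := (Nat.le_of_dvd hY0 hap).trans hY1
          have := ap_ge h.P
          omega
      · have h3 := size_down hB hY hXB (D := 2 * v) (by omega)
        have h4 : 2 * v * ((q ^ 3 - 1) / 2) + v = v * q ^ 3 := by
          calc 2 * v * ((q ^ 3 - 1) / 2) + v = v * (2 * ((q ^ 3 - 1) / 2) + 1) := by ring
            _ = _ := by rw [hA]
        rw [mul_comm Y X, hXY'] at h3
        nlinarith
    by_contra hcon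
    push Not at hcon
    have h1 : v ^ 3 ≤ q ^ 3 + 2 := by
      apply Nat.le_of_mul_le_mul_left _ hv
      calc v * v ^ 3 = v ^ 4 := by ring
        _ ≤ _ := key
    have h2 : (q + 1) ^ 3 ≤ v ^ 3 := Nat.pow_le_pow_left hcon 3
    nlinarith
  have hlt : v + 1 ≤ q := by omega
  obtain ⟨c, d, hc, hd, hd0, hc0, h3⟩ := both_aux h hY hap
  have hev : (v ^ 2 + v) % 2 = 0 := by
    have : v ^ 2 + v = v * (v + 1) := by ring
    rw [this]
    exact Nat.even_iff.1 (Nat.even_mul_succ_self v)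
  have hYodd : Y % 2 = 1 := by omega
  have hco : c % 2 = 1 := by
    have h4 := h.odd
    rw [hc, Nat.mul_mod] at h4
    rcases Nat.mod_two_eq_zero_or_one c with h5 | h5
    · rw [h5] at h4; simp at h4
    · exact h5
  have hdo : d % 2 = 1 := by
    have h4 := hYodd
    rw [hd, Nat.mul_mod] at h4
    rcases Nat.mod_two_eq_zero_or_one d with h5 | h5
    · rw [h5] at h4; simp at h4
    · exact h5
  have h1 : c * d < 3 := by
    by_contra hcon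
    push Not at hcon
    have h4 := Nat.mul_le_mul_left (q ^ 4 + q ^ 2 + 1) hcon
    rw [← h3, hXY'] at h4
    have h5 : v ^ 4 < q ^ 4 := Nat.pow_lt_pow_left hlt (by norm_num)
    have h6 : v ^ 2 < q ^ 2 := Nat.pow_lt_pow_left hlt (by norm_num)
    omega
  have h2 : (c * d) % 2 = 1 := by rw [Nat.mul_mod, hco, hdo]
  have h4 : c * d = 1 := by omega
  have hc1 : c = 1 := Nat.eq_one_of_mul_eq_one_right h4
  have hd1 : d = 1 := Nat.eq_one_of_mul_eq_one_left h4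
  rw [hc1, mul_one] at hc
  rw [hd1, mul_one] at hd
  have hqq : 5 * q ≤ q ^ 2 := by nlinarith
  rcases ap_am_cases h.P with ⟨k1, k2⟩ | ⟨-, k1, k2⟩
  · rw [← hd] at k1
    rw [← hc] at k2
    rcases hXY with ⟨h1, h2⟩ | ⟨h1, h2⟩
    · omega
    · -- `3 v = (q + 1)²`
      omega
  · rw [← hd] at k1
    rw [← hc] at k2
    rcases hXY with ⟨h1, h2⟩ | ⟨h1, h2⟩
    · -- `3 v = (q - 1)²`
      have h5 : 3 * v + 2 * q = q ^ 2 + 1 := by omega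
      omega
    · omega

/-- `v⁴ + 1`, `v⁴ - v² + 1`, `w = v²` -/
theorem both_F4 {w : ℕ} (hY : Y ∣ (q ^ 3 - 1) / 2) (hap : ap q ∣ Y) (hw : 4 ≤ w)
    (hXY : (X = w ^ 2 + 1 ∧ Y + w = w ^ 2 + 1) ∨ (X + w = w ^ 2 + 1 ∧ Y = w ^ 2 + 1)) : False := by
  have h5 := h.P.le
  have hB := h.P.B
  have hA := h.P.A
  have hXB : X ∣ (q ^ 3 + 1) / 2 := ⟨s, by rw [← h.mul]; ring⟩
  have hY0 : 0 < Y := Nat.pos_of_dvd_of_pos hY h.P.A_pos
  have hww : 4 * w ≤ w ^ 2 := by nlinarith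
  obtain ⟨T, hT⟩ : ∃ T, T + w = w ^ 2 + 1 := ⟨w ^ 2 + 1 - w, by omega⟩
  have hXY' : X * Y = (w ^ 2 + 1) * T := by
    rcases hXY with ⟨h1, h2⟩ | ⟨h1, h2⟩
    · rw [h1, show Y = T by omega]
    · rw [h2, show X = T by omega]; ring
  -- size
  have key : 2 * ((w ^ 2 + 1) * T) ≤ w * (q ^ 3 + 1) + 2 * (w ^ 2 + 1) := by
    rw [← hXY']
    rcases hXY with ⟨h1, h2⟩ | ⟨h1, h2⟩
    · rcases Nat.lt_or_ge 1 Y with hY1 | hY1
      · rcases size_up hB hY hY1 hXB (D := w) (by omega) with h3 | h3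
        · omega
        · have h4 : 2 * (w * ((q ^ 3 + 1) / 2)) = w * (q ^ 3 + 1) := by
            have : 2 * ((q ^ 3 + 1) / 2) = q ^ 3 + 1 := by omega
            calc 2 * (w * ((q ^ 3 + 1) / 2)) = w * (2 * ((q ^ 3 + 1) / 2)) := by ring
              _ = _ := by rw [this]
          rw [mul_comm Y X] at h3
          omega
      · have : ap q ≤ 1 := (Nat.le_of_dvd hY0 hap).trans hY1
        have := ap_ge h.P
        omega
    · have h3 := size_down hB hY hXB (D := w) (by omega)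
      have h4 : 2 * (w * ((q ^ 3 - 1) / 2)) + w = w * q ^ 3 := by
        calc 2 * (w * ((q ^ 3 - 1) / 2)) + w = w * (2 * ((q ^ 3 - 1) / 2) + 1) := by ring
          _ = _ := by rw [hA]
      rw [mul_comm Y X] at h3
      have h6 : w * (q ^ 3 + 1) = w * q ^ 3 + w := by ring
      omega
  obtain ⟨t, ht⟩ : ∃ t, w = t + 1 := ⟨w - 1, by omega⟩
  have hT' : T = w * t + 1 := by
    have : w ^ 2 = w * t + w := by rw [ht]; ring
    omega
  -- `2 (w² + 1) (w - 1) ≤ q³ + 1`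
  have key2 : 2 * ((w ^ 2 + 1) * t) ≤ q ^ 3 + 1 := by
    rw [hT'] at key
    have h1 : w * (2 * ((w ^ 2 + 1) * t)) ≤ w * (q ^ 3 + 1) := by nlinarith
    exact Nat.le_of_mul_le_mul_left h1 (by omega)
  have hle : w ≤ q := by
    by_contra hcon
    push Not at hcon
    have h1 : q ≤ t := by omega
    have h2 : (q ^ 2 + 1) * q ≤ (w ^ 2 + 1) * t :=
      Nat.mul_le_mul (Nat.add_le_add_right (Nat.pow_le_pow_left (by omega) 2) 1) h1
    have h3 : (q ^ 2 + 1) * q = q ^ 3 + q := by ring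
    have h4 : 1 ≤ q ^ 3 := Nat.one_le_pow _ _ (by omega)
    omega
  have hqq : 5 * q ≤ q ^ 2 := by nlinarith
  have hq3 : q ^ 4 = q * q ^ 3 := by ring
  obtain ⟨e1, e2⟩ := both_eq h hY hap (by
    rw [hXY', hT']
    have h1 : w * (2 * ((w ^ 2 + 1) * t)) ≤ q * (q ^ 3 + 1) := Nat.mul_le_mul hle key2
    have h2 : w ^ 2 ≤ q ^ 2 := Nat.pow_le_pow_left hle 2
    have h3 : 5 * q ^ 2 ≤ q ^ 3 := by
      have : q ^ 3 = q * q ^ 2 := by ring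
      rw [this]
      exact Nat.mul_le_mul_right _ h5
    have h6 : 5 * q ^ 3 ≤ q ^ 4 := by
      rw [hq3]
      exact Nat.mul_le_mul_right _ h5
    have e : (w ^ 2 + 1) * (w * t + 1) = w * ((w ^ 2 + 1) * t) + (w ^ 2 + 1) := by ring
    have e' : q * (q ^ 3 + 1) = q ^ 4 + q := by ring
    have e'' : w * (2 * ((w ^ 2 + 1) * t)) = 2 * (w * ((w ^ 2 + 1) * t)) := by ring
    rw [e]
    rw [e', e''] at h1
    omega)
  rcases ap_am_cases h.P with ⟨k1, k2⟩ | ⟨-, k1, k2⟩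
  · rw [← e2] at k1
    rw [← e1] at k2
    rcases hXY with ⟨h1, h2⟩ | ⟨h1, h2⟩
    · omega
    · -- `3 w = 2 (q + 1)²`
      omega
  · rw [← e2] at k1
    rw [← e1] at k2
    rcases hXY with ⟨h1, h2⟩ | ⟨h1, h2⟩
    · omega
    · omega

end Both

theorem eq_of_sq_sub {q v : ℕ} (h : v ^ 2 + q = q ^ 2 + v) (hv : 2 ≤ v) : v = q := by
  have h1 : ((v : ℤ) - q) * (v + q - 1) = 0 := by
    have : (v : ℤ) ^ 2 + q = (q : ℤ) ^ 2 + v := by exact_mod_cast h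
    linear_combination this
  rcases mul_eq_zero.1 h1 with h2 | h2 <;> omega

/-! ### `ap` is not a power of the characteristic -/

theorem pow_false {q X s v u k : ℕ} (h : XS q X s) (hu : u.Prime) (huv : u ∣ v) (hv : 0 < v) (hk : ap q = u ^ k)
    (hk1 : k ≠ 0 → u ^ (k - 1) < 52) (hX : v ^ 2 + 1 ≤ X + v) : False := by
  have h5 := h.P.le
  have hap := ap_ge h.P
  have hk0 : k ≠ 0 := by
    rintro rfl
    rw [pow_zero] at hk
    omega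
  have hk2 := hk1 hk0
  have hkk : u ^ k = u * u ^ (k - 1) := by
    rw [← pow_succ']
    congr 1
    omega
  rcases (by omega : k = 1 ∨ 2 ≤ k) with rfl | h2
  · rw [pow_one] at hk
    have huv' : ap q ≤ v := by rw [hk]; exact Nat.le_of_dvd hv huv
    have h3 := three_ap (q := q) (by omega)
    have h4 : X ≤ (q ^ 3 + 1) / 2 := Nat.le_of_dvd (by have := h.P.A; have := h.P.A_pos; have := h.P.B; omega)
      ⟨s, by rw [← h.mul]; ring⟩
    have h6 : 2 * X ≤ q ^ 3 + 1 := by omega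
    -- `9 (v² - v + 1) ≥ (q² + q + 1)² - 3 (q² + q + 1) + 9`
    have h7 : q ^ 2 + q + 1 ≤ 3 * v := by omega
    have h8 : (q ^ 2 + q + 1) ^ 2 + 9 * v ≤ 9 * v ^ 2 + 3 * (q ^ 2 + q + 1) := by
      obtain ⟨t, ht⟩ := Nat.exists_eq_add_of_le h7
      nlinarith
    have e : (q ^ 2 + q + 1) ^ 2 = q ^ 4 + 2 * q ^ 3 + 3 * q ^ 2 + 2 * q + 1 := by ring
    have h9 : 5 * q ^ 3 ≤ q ^ 4 := by
      have : q ^ 4 = q * q ^ 3 := by ring
      rw [this]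
      exact Nat.mul_le_mul_right _ h5
    have h10 : 1 ≤ q ^ 3 := Nat.one_le_pow _ _ (by omega)
    have h11 : q ≤ q ^ 2 := Nat.le_self_pow (by norm_num) q
    have h12 : q ^ 2 ≤ q ^ 3 := Nat.pow_le_pow_right (by omega) (by norm_num)
    omega
  · have hu1 : u ≤ u ^ (k - 1) := Nat.le_self_pow (by omega) u
    have hu51 : u ≤ 51 := by omega
    have hle : ap q ≤ 51 * 51 := by
      rw [hk, hkk]
      exact Nat.mul_le_mul hu51 (by omega)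
    rcases h.cases3 with hq | hq | hq
    · rw [hq] at hk
      have e : ap 5 = 31 := by decide
      rw [e] at hk
      have h1 : u ∣ 31 := by rw [hk]; exact dvd_pow_self u hk0
      have h3 : u = 31 := (Nat.prime_dvd_prime_iff_eq hu (by norm_num)).1 h1
      rw [h3] at hk
      have h4 : 31 ^ 2 ≤ 31 ^ k := Nat.pow_le_pow_right (by norm_num) h2
      omega
    · rw [hq] at hk
      have e : ap 25 = 217 := by decide
      rw [e] at hk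
      have h1 : u ∣ 7 * 31 := by
        have : u ∣ u ^ k := dvd_pow_self u hk0
        rwa [← hk] at this
      rcases hu.dvd_mul.1 h1 with h3 | h3
      · have h4 : u = 7 := (Nat.prime_dvd_prime_iff_eq hu (by norm_num)).1 h3
        have h6 : 31 ∣ 7 ^ k := by rw [← h4, ← hk]; norm_num
        exact absurd (Nat.Prime.dvd_of_dvd_pow (by norm_num) h6) (by norm_num)
      · have h4 : u = 31 := (Nat.prime_dvd_prime_iff_eq hu (by norm_num)).1 h3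
        have h6 : 7 ∣ 31 ^ k := by rw [← h4, ← hk]; norm_num
        exact absurd (Nat.Prime.dvd_of_dvd_pow (by norm_num) h6) (by norm_num)
    · have h3 := three_ap (q := q) (by omega)
      have h4 : 125 * q ≤ q ^ 2 := by nlinarith
      omega

end Cfsg.Agent.H374.Six5
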